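import Cfsg.Agent.Lib.Helper56.J1Perm.Data

set_option autoImplicit false
set_option linter.unusedVariables false

namespace Cfsg.Agent.Lib.Helper56.J1Perm

open Cfsg.Agent.Lib.Helper56.J1Q (Gen)
open Cfsg.Agent.Lib.Helper28.TC Cfsg.Agent.Lib.Helper56.J1R

noncomputable section

theorem labP_blk0 : allRange (guard nn labP) 10 (0 * 2 ^ 10) = true := by decide +kernel
theorem labP_blk1 : allRange (guard nn labP) 10 (1 * 2 ^ 10) = true := by decide +kernel
theorem labP_all : ∀ i, i < nn → labP i = true := by
  refine all_of_blocks nn labP 10 2 (by decide) ?_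
  intro k hk
  interval_cases k
  · exact labP_blk0
  · exact labP_blk1
theorem subP1_blk0 : allRange (guard nn subP1) 10 (0 * 2 ^ 10) = true := by decide +kernel
theorem subP1_blk1 : allRange (guard nn subP1) 10 (1 * 2 ^ 10) = true := by decide +kernel
theorem subP1_all : ∀ i, i < nn → subP1 i = true := by
  refine all_of_blocks nn subP1 10 2 (by decide) ?_
  intro k hk
  interval_cases k
  · exact subP1_blk0
  · exact subP1_blk1
theorem sub1_count : countRange (fun i => band (nlt i nn) ((OCs 1 1).inO i)) 11 0 = 56 := by decide +kernel
theorem sub1_root : (OCs 1 1).inO 1 = true := by decide +kernel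
theorem subP2_blk0 : allRange (guard nn subP2) 10 (0 * 2 ^ 10) = true := by decide +kernel
theorem subP2_blk1 : allRange (guard nn subP2) 10 (1 * 2 ^ 10) = true := by decide +kernel
theorem subP2_all : ∀ i, i < nn → subP2 i = true := by
  refine all_of_blocks nn subP2 10 2 (by decide) ?_
  intro k hk
  interval_cases k
  · exact subP2_blk0
  · exact subP2_blk1
theorem sub2_count : countRange (fun i => band (nlt i nn) ((OCs 2 3).inO i)) 11 0 = 168 := by decide +kernel
theorem sub2_root : (OCs 2 3).inO 3 = true := by decide +kernel
theorem subP3_blk0 : allRange (guard nn subP3) 10 (0 * 2 ^ 10) = true := by decide +kernel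
theorem subP3_blk1 : allRange (guard nn subP3) 10 (1 * 2 ^ 10) = true := by decide +kernel
theorem subP3_all : ∀ i, i < nn → subP3 i = true := by
  refine all_of_blocks nn subP3 10 2 (by decide) ?_
  intro k hk
  interval_cases k
  · exact subP3_blk0
  · exact subP3_blk1
theorem sub3_count : countRange (fun i => band (nlt i nn) ((OCs 3 4).inO i)) 11 0 = 56 := by decide +kernel
theorem sub3_root : (OCs 3 4).inO 4 = true := by decide +kernel
theorem subP4_blk0 : allRange (guard nn subP4) 10 (0 * 2 ^ 10) = true := by decide +kernel
theorem subP4_blk1 : allRange (guard nn subP4) 10 (1 * 2 ^ 10) = true := by decide +kernel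
theorem subP4_all : ∀ i, i < nn → subP4 i = true := by
  refine all_of_blocks nn subP4 10 2 (by decide) ?_
  intro k hk
  interval_cases k
  · exact subP4_blk0
  · exact subP4_blk1
theorem sub4_count : countRange (fun i => band (nlt i nn) ((OCs 4 8).inO i)) 11 0 = 56 := by decide +kernel
theorem sub4_root : (OCs 4 8).inO 8 = true := by decide +kernel
theorem subP5_blk0 : allRange (guard nn subP5) 10 (0 * 2 ^ 10) = true := by decide +kernel
theorem subP5_blk1 : allRange (guard nn subP5) 10 (1 * 2 ^ 10) = true := by decide +kernel
theorem subP5_all : ∀ i, i < nn → subP5 i = true := by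
  refine all_of_blocks nn subP5 10 2 (by decide) ?_
  intro k hk
  interval_cases k
  · exact subP5_blk0
  · exact subP5_blk1
theorem sub5_count : countRange (fun i => band (nlt i nn) ((OCs 5 9).inO i)) 11 0 = 168 := by decide +kernel
theorem sub5_root : (OCs 5 9).inO 9 = true := by decide +kernel
theorem subP6_blk0 : allRange (guard nn subP6) 10 (0 * 2 ^ 10) = true := by decide +kernel
theorem subP6_blk1 : allRange (guard nn subP6) 10 (1 * 2 ^ 10) = true := by decide +kernel
theorem subP6_all : ∀ i, i < nn → subP6 i = true := by
  refine all_of_blocks nn subP6 10 2 (by decide) ?_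
  intro k hk
  interval_cases k
  · exact subP6_blk0
  · exact subP6_blk1
theorem sub6_count : countRange (fun i => band (nlt i nn) ((OCs 6 10).inO i)) 11 0 = 168 := by decide +kernel
theorem sub6_root : (OCs 6 10).inO 10 = true := by decide +kernel
theorem subP7_blk0 : allRange (guard nn subP7) 10 (0 * 2 ^ 10) = true := by decide +kernel
theorem subP7_blk1 : allRange (guard nn subP7) 10 (1 * 2 ^ 10) = true := by decide +kernel
theorem subP7_all : ∀ i, i < nn → subP7 i = true := by
  refine all_of_blocks nn subP7 10 2 (by decide) ?_
  intro k hk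
  interval_cases k
  · exact subP7_blk0
  · exact subP7_blk1
theorem sub7_count : countRange (fun i => band (nlt i nn) ((OCs 7 11).inO i)) 11 0 = 168 := by decide +kernel
theorem sub7_root : (OCs 7 11).inO 11 = true := by decide +kernel
theorem subP8_blk0 : allRange (guard nn subP8) 10 (0 * 2 ^ 10) = true := by decide +kernel
theorem subP8_blk1 : allRange (guard nn subP8) 10 (1 * 2 ^ 10) = true := by decide +kernel
theorem subP8_all : ∀ i, i < nn → subP8 i = true := by
  refine all_of_blocks nn subP8 10 2 (by decide) ?_
  intro k hk
  interval_cases k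
  · exact subP8_blk0
  · exact subP8_blk1
theorem sub8_count : countRange (fun i => band (nlt i nn) ((OCs 8 13).inO i)) 11 0 = 8 := by decide +kernel
theorem sub8_root : (OCs 8 13).inO 13 = true := by decide +kernel
theorem subP9_blk0 : allRange (guard nn subP9) 10 (0 * 2 ^ 10) = true := by decide +kernel
theorem subP9_blk1 : allRange (guard nn subP9) 10 (1 * 2 ^ 10) = true := by decide +kernel
theorem subP9_all : ∀ i, i < nn → subP9 i = true := by
  refine all_of_blocks nn subP9 10 2 (by decide) ?_
  intro k hk
  interval_cases k
  · exact subP9_blk0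
  · exact subP9_blk1
theorem sub9_count : countRange (fun i => band (nlt i nn) ((OCs 9 23).inO i)) 11 0 = 168 := by decide +kernel
theorem sub9_root : (OCs 9 23).inO 23 = true := by decide +kernel
theorem subP10_blk0 : allRange (guard nn subP10) 10 (0 * 2 ^ 10) = true := by decide +kernel
theorem subP10_blk1 : allRange (guard nn subP10) 10 (1 * 2 ^ 10) = true := by decide +kernel
theorem subP10_all : ∀ i, i < nn → subP10 i = true := by
  refine all_of_blocks nn subP10 10 2 (by decide) ?_
  intro k hk
  interval_cases k
  · exact subP10_blk0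
  · exact subP10_blk1
theorem sub10_count : countRange (fun i => band (nlt i nn) ((OCs 10 38).inO i)) 11 0 = 28 := by decide +kernel
theorem sub10_root : (OCs 10 38).inO 38 = true := by decide +kernel
theorem fixK : allList (fun w => Nat.beq (act tf w 0) 0) wordsK = true := by decide +kernel
theorem uv_cover : ∀ x : Gen, (∃ t ∈ uvWords, t.1 = x) ∨ (∃ t ∈ exWords, t.1 = x ∧ ∀ y ∈ t.2, ∃ t' ∈ uvWords, t'.1 = y) := by
  intro x
  cases x <;> decide

end

end Cfsg.Agent.Lib.Helper56.J1Perm
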